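import Groth.Agent.Lib.HodgeIndex.Form
import Groth.Agent.Lib.Kodaira.Cones
import Groth.Prelude.Def_ClSub2

/-!
# Self-intersection numbers written with an inverse module
-/

set_option autoImplicit false
set_option backward.isDefEq.respectTransparency false
set_option linter.all false

universe u

open CategoryTheory CategoryTheory.Limits AlgebraicGeometry TopologicalSpace

noncomputable section

namespace GrothLib.NefGrowth

open GrothLib.Euler (tF)
open GrothLib.Snapper (DimLT phi mixed polyLT)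
open GrothLib.Cube (Pic clsMod)

variable {X : Scheme.{u}}

theorem cls_inverse {L T : X.Modules} (hL : PicF.IsInvertible L) (h : ClSub.IsInverseOf T L) :
    ∃ hT : PicF.IsInvertible T, clsMod hT * clsMod hL = 1 := by
  obtain ⟨S, hS, hSi⟩ := Kodaira.exists_inverse hL
  obtain ⟨e₁⟩ := h
  have hcomm : Nonempty (CohB1.tensorMod L S ≅ Coh.structureModule X) := by
    obtain ⟨e₂⟩ := hSi
    first
      | exact ⟨e₂⟩
      | exact ⟨GrTilde.tensorModComm _ _ ≪≫ e₂⟩
  obtain ⟨e₂⟩ := hcomm
  let e : T ≅ S := (OX.tensorUnitLeftIso T).symm ≪≫ GrTilde.tensorModComm _ _ ≪≫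
    Ample.LineData.tensorModMapIso (Iso.refl T) e₂.symm ≪≫ (OX.tensorAssoc T L S).symm ≪≫
    Ample.LineData.tensorModMapIso e₁ (Iso.refl S) ≪≫ OX.tensorUnitLeftIso S
  have hT : PicF.IsInvertible T := by
    obtain ⟨c, ⟨d⟩⟩ := Ample.exists_cocycle hS
    exact c.isInvertible_of_iso (e ≪≫ d)
  refine ⟨hT, ?_⟩
  rw [← Cube.clsMod_tensorMod hT hL, Cube.clsMod_eq_one_iff]
  exact ⟨e₁⟩

variable (k : Type u) [Field k] [X.Over (Spec (CommRingCat.of k))] [IsProper (X ↘ Spec (CommRingCat.of k))]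

/-- `χ` computed in degrees up to the dimension. -/
theorem eulerCharLE_eq {A : X.Modules} (hA : CohB1.IsAmple A) {n : ℕ} (hn : topologicalKrullDim X ≤ (n : WithBot ℕ∞))
    {E : X.Modules} (hE : Coh.IsCoh E) : FGA.eulerCharLE k X E n = Curv2.euler k X E := by
  haveI := hE.1
  rw [Euler.euler_eq_sum k E (N := n + 1) fun i hi => HodgeIndex.subsingleton_HH_of_dimLT k hA (n + 1) E hE
    ((Kleiman.dimLT_univ hn).mono fun _ _ => trivial) i hi]
  rfl

theorem cls_tensorList {T : X.Modules} (hT : PicF.IsInvertible T) : ∀ j : ℕ,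
    ∃ h : PicF.IsInvertible (FGA.tensorList (List.replicate j T)), clsMod h = clsMod hT ^ j
  | 0 => ⟨Euler.isInvertible_structure, (pow_zero (clsMod hT)).symm ▸ (Cube.clsMod_eq_one_iff _).2 ⟨Iso.refl _⟩⟩
  | j + 1 => by
    obtain ⟨h, hc⟩ := cls_tensorList hT j
    refine ⟨Ample.isInvertible_tensorMod hT h, ?_⟩
    rw [pow_succ', ← hc, ← Cube.clsMod_tensorMod hT h]

/-- `∫ c₁(L)^r F` of the statements is the mixed difference of `χ`. -/
theorem intNum_eq_mixed {A : X.Modules} (hA : CohB1.IsAmple A) {n : ℕ}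
    (hn : topologicalKrullDim X ≤ (n : WithBot ℕ∞)) {L T : X.Modules} (hL : PicF.IsInvertible L)
    (hT : ClSub.IsInverseOf T L) {r : ℕ} {F : X.Modules} (hF : Coh.IsCoh F)
    (hd : DimLT (CohB1.support F) (r + 1)) :
    (FGA.intNum k X n (fun _ : Fin r => T) F : ℚ) = mixed r (phi k r (fun _ => L) F) := by
  haveI := Euler.isNoetherian_of_proper (X := X) k
  obtain ⟨hTi, hTL⟩ := cls_inverse hL hT
  have hTr := Ample.isInvertible_tensorPow hTi r
  have h0 : mixed r (phi k r (fun _ => L) F) =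
      mixed r (phi k r (fun _ => L) ((tF (CohB1.tensorPow T r)).obj F)) := by
    have h := Snapper.mixed_eq_zero (Snapper.phi_tF_sub_mem k (r := r) (L := fun _ => L) (fun _ => hL) hTr hF hd)
    rw [map_sub, sub_eq_zero] at h
    exact h.symm
  rw [h0, FGA.intNum, Int.cast_sum]
  show _ = ∑ S : Finset (Fin r), (-1 : ℚ) ^ (r - S.card) *
    phi k r (fun _ => L) ((tF (CohB1.tensorPow T r)).obj F) (Snapper.ind S)
  refine Fintype.sum_equiv ⟨compl, compl, compl_compl, compl_compl⟩ _ _ fun I => ?_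
  have hIc : I.card ≤ r := (Finset.card_le_univ I).trans_eq (Fintype.card_fin r)
  obtain ⟨j, hj⟩ : ∃ j, r = I.card + j := Nat.exists_eq_add_of_le hIc
  have hc : Iᶜ.card = j := by rw [Finset.card_compl, Fintype.card_fin]; omega
  show _ = (-1 : ℚ) ^ (r - Iᶜ.card) * phi k r (fun _ => L) ((tF (CohB1.tensorPow T r)).obj F) (Snapper.ind Iᶜ)
  have hsum : ∑ i, Snapper.ind Iᶜ i = j := by
    simp only [Snapper.ind, Finset.sum_boole, Finset.filter_mem_eq_inter, Finset.univ_inter]
    simpa using hc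
  rw [Snapper.phi_const_eq, hsum, hc, show r - j = I.card by omega]
  have hmap : (I.sort (· ≤ ·)).map (fun _ : Fin r => T) = List.replicate I.card T := by
    rw [List.map_const', Finset.length_sort]
  rw [hmap]
  obtain ⟨hJ, hJc⟩ := cls_tensorList hTi I.card
  obtain ⟨e⟩ : Nonempty (CohB1.tensorMod (CohB1.tensorPow T r) (CohB1.tensorPow L j) ≅
      FGA.tensorList (List.replicate I.card T)) :=
    (Cube.clsMod_eq_iff (Ample.isInvertible_tensorMod hTr (Ample.isInvertible_tensorPow hL j)) hJ).1 (by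
      rw [Cube.clsMod_tensorMod hTr (Ample.isInvertible_tensorPow hL j), hJc, Cube.clsMod_tensorPow hTi,
        Cube.clsMod_tensorPow hL, show clsMod hTi ^ r = clsMod hTi ^ (I.card + j) from congrArg _ hj, pow_add,
        mul_assoc, ← mul_pow, hTL, one_pow, mul_one])
  obtain ⟨e'⟩ := HodgeIndex.nonempty_tF_tF F e
  have e'' : (tF (CohB1.tensorPow L j)).obj ((tF (CohB1.tensorPow T r)).obj F) ≅
      CohB1.tensorMod (FGA.tensorList (List.replicate I.card T)) F := e' ≪≫ GrTilde.tensorModComm _ _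
  have hcoh : Coh.IsCoh (CohB1.tensorMod (FGA.tensorList (List.replicate I.card T)) F) :=
    QCoh.isCoh_of_iso e'' (Snapper.isCoh_twist k hL (Euler.isCoh_tF hF (Euler.isFinLocFree_of_isInvertible hTr)) j)
  rw [eulerCharLE_eq k hA hn hcoh, Euler.euler_of_iso k e'']
  push_cast
  ring

end GrothLib.NefGrowth
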