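import Groth.Agent.Lib.NefGrowth.Big
import Groth.Agent.Lib.NefGrowth.IntNum

/-!
# Nef modules with numerically trivial `m`-th power have `O(n^{m-1})` sections
-/

set_option autoImplicit false
set_option backward.isDefEq.respectTransparency false
set_option linter.all false

universe u

open CategoryTheory CategoryTheory.Limits AlgebraicGeometry TopologicalSpace

noncomputable section

namespace GrothLib.NefGrowth

open GrothLib.Euler (tF)
open GrothLib.Snapper (DimLT IsTop phi mixed polyLT ptMod)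
open GrothLib.Cube (Pic clsMod)
open GrothLib.Kodaira (PLe h0)
open GrothLib.Kleiman (tc)
open GrothLib.HodgeIndex (rep isInv_rep cls_rep)

variable {X : Scheme.{u}} (k : Type u) [Field k] [X.Over (Spec (CommRingCat.of k))]

/-- `c₁(L)^m` vanishes on all `m`-dimensional integral closed subschemes. -/
def NumTriv (m : ℕ) (L : X.Modules) : Prop :=
  ∀ (V : Scheme.{u}) [V.Over (Spec (CommRingCat.of k))] [IsProper (V ↘ Spec (CommRingCat.of k))] (j : V ⟶ X)
    [IsClosedImmersion j], j ≫ X ↘ Spec (CommRingCat.of k) = V ↘ Spec (CommRingCat.of k) → IsIntegral V →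
    topologicalKrullDim V = (m : WithBot ℕ∞) →
    mixed m (phi k m (fun _ => (Scheme.Modules.pullback j).obj L) (Coh.structureModule V)) = 0

variable {k}

theorem NumTriv.pullback [IsProper (X ↘ Spec (CommRingCat.of k))] {m : ℕ} {L : X.Modules} (h : NumTriv k m L)
    (hL : PicF.IsInvertible L) {Z : Scheme.{u}}
    [Z.Over (Spec (CommRingCat.of k))] (i : Z ⟶ X) [IsClosedImmersion i]
    (hi : i ≫ X ↘ Spec (CommRingCat.of k) = Z ↘ Spec (CommRingCat.of k)) :
    NumTriv k m ((Scheme.Modules.pullback i).obj L) := by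
  intro V _ _ j _ hj hV hdim
  have h1 := h V (j ≫ i) (by rw [Category.assoc, hi, hj]) hV hdim
  have hcls : clsMod (Kleiman.isInv_pullback j (Kleiman.isInv_pullback i hL)) =
      clsMod (Kleiman.isInv_pullback (j ≫ i) hL) :=
    Cube.clsMod_eq_iff _ _ |>.2 ⟨(Scheme.Modules.pullbackComp j i).app L⟩
  have e : phi k m (fun _ => (Scheme.Modules.pullback j).obj ((Scheme.Modules.pullback i).obj L))
      (Coh.structureModule V) =
      phi k m (fun _ => (Scheme.Modules.pullback (j ≫ i)).obj L) (Coh.structureModule V) := funext fun n =>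
    Kleiman.phi_eq_of_cls k (fun _ => Kleiman.isInv_pullback j (Kleiman.isInv_pullback i hL))
      (fun _ => Kleiman.isInv_pullback (j ≫ i) hL) _ (by simp only [hcls])
  rw [e]
  exact h1

variable (k) [IsProper (X ↘ Spec (CommRingCat.of k))]

include k in
/-- Cutting by a section of a power of the ample module. -/
theorem exists_cut [IsIntegral X] {e : ℕ} (hdim : topologicalKrullDim X = ((e + 1 : ℕ) : WithBot ℕ∞))
    {L A : X.Modules} (hL : PicF.IsInvertible L) (hA : CohB1.IsAmple A) :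
    ∃ (j : ℕ) (Q : X.Modules), 0 < j ∧ Coh.IsCoh Q ∧ DimLT (CohB1.support Q) (e + 1) ∧ ∀ i, i ≤ e →
      tc e i (phi k 2 ![L, A] Q) =
        (j : ℚ) * ((e + 1 - i : ℕ) : ℚ) * tc (e + 1) i (phi k 2 ![L, A] (Coh.structureModule X)) := by
  haveI := Euler.isNoetherian_of_proper (X := X) k
  obtain ⟨j₀, hj₀⟩ := Kodaira.exists_pLe_pow hA (1 : Pic X)
  obtain ⟨j, hj⟩ : ∃ j, j = j₀ + 1 := ⟨_, rfl⟩
  have hle : PLe (1 : Pic X) (clsMod hA.1 ^ j) := hj₀ j (by omega)
  have hM := Ample.isInvertible_tensorPow hA.1 j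
  have hOi := Euler.isInvertible_structure (X := X)
  rw [← Cube.clsMod_tensorPow hA.1 j, ← (Cube.clsMod_eq_one_iff hOi).2 ⟨Iso.refl _⟩] at hle
  obtain ⟨f, hf⟩ := (Kodaira.pLe_iff hOi hM).1 hle
  have hO := Kleiman.isCoh_O (X := X) k
  have hMc : Coh.IsCoh (CohB1.tensorPow A j) := Euler.isCoh_of_isInvertible hM
  have hQ : Coh.IsCoh (cokernel f) := QCoh.isCoh_cokernel f hO hMc
  let S : ShortComplex X.Modules := ShortComplex.mk f (cokernel.π f) (cokernel.condition f)
  have hS : S.ShortExact :=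
    haveI : Mono S.f := hf
    haveI : Epi S.g := inferInstanceAs (Epi (cokernel.π f))
    { exact := ShortComplex.exact_of_g_is_cokernel _ (cokernelIsCokernel _) }
  have hcl : closure ({genericPoint X} : Set X) = Set.univ := genericPoint_closure X
  have hXd : DimLT (Set.univ : Set X) (e + 1 + 1) := Kleiman.dimLT_univ hdim.le
  refine ⟨j, cokernel f, by omega, hQ, Snapper.dimLT_of_notMem (η := genericPoint X) (by rw [hcl]; exact hXd)
    (by rw [hcl]; exact Set.subset_univ _) (QCoh.notMem_support_cokernel_of_surjective f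
      (Euler.stalkLin_genericPoint_bijective hOi hM (Kodaira.exists_ne_zero_of_mono hOi f)).2), fun i hi => ?_⟩
  have hLA := Kleiman.inv_two hL hA.1
  have hadd := Snapper.phi_additive k hLA hS hO hMc hQ
  obtain ⟨F, hFdef⟩ : ∃ F, F = phi k 2 ![L, A] (Coh.structureModule X) := ⟨_, rfl⟩
  have hF : F ∈ polyLT 2 (e + 1 + 1) := hFdef ▸ Kleiman.phi_mem k hL hA.1 hO (hXd.mono fun _ _ => trivial)
  have h2 : ∀ m : Fin 2 → ℕ, phi k 2 ![L, A] (CohB1.tensorPow A j) m = F ![m 0, m 1 + j] := fun m => by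
    rw [hFdef, Snapper.phi_of_iso k ![L, A] (show CohB1.tensorPow A j ≅
      (tF (CohB1.tensorPow A j)).obj (Coh.structureModule X) from (OX.tensorUnitLeftIso _).symm)]
    refine Kleiman.phi_tF_of_cls k hLA hM _ ?_
    rw [Fin.prod_univ_two, Fin.prod_univ_two, Cube.clsMod_tensorPow hA.1 j]
    show clsMod hA.1 ^ j * (clsMod hL ^ m 0 * clsMod hA.1 ^ m 1) = clsMod hL ^ m 0 * clsMod hA.1 ^ (m 1 + j)
    rw [mul_left_comm, ← pow_add, add_comm j (m 1)]
  have hQphi : phi k 2 ![L, A] (cokernel f) = fun n => F ![n 0, n 1 + j] - F n := by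
    funext m
    have h := congrFun hadd m
    simp only [S, Pi.add_apply, h2, ← hFdef] at h
    linarith
  rw [hQphi, Kleiman.tc_shift hi hF, hFdef]

/-- Vanishing of the intersection numbers in the range `m ≤ i ≤ d`. -/
def VanHyp (k : Type u) [Field k] (m d : ℕ) : Prop :=
  ∀ (X : Scheme.{u}) [X.Over (Spec (CommRingCat.of k))] [IsProper (X ↘ Spec (CommRingCat.of k))] [IsIntegral X],
    topologicalKrullDim X = (d : WithBot ℕ∞) → ∀ L A : X.Modules, PicF.IsInvertible L → NumR.IsNef k X L →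
      CohB1.IsAmple A → NumTriv k m L → ∀ i, m ≤ i → i ≤ d → tc d i (phi k 2 ![L, A] (Coh.structureModule X)) = 0

theorem tc_eq_zero_of_hyp {m d : ℕ} (H : VanHyp k m d) {L A F : X.Modules} (hL : PicF.IsInvertible L)
    (hn : NumR.IsNef k X L) (hA : CohB1.IsAmple A) (ht : NumTriv k m L) (hF : Coh.IsCoh F)
    (hd : DimLT (CohB1.support F) (d + 1)) {i : ℕ} (hmi : m ≤ i) (hi : i ≤ d) :
    tc d i (phi k 2 ![L, A] F) = 0 := by
  haveI := Euler.isNoetherian_of_proper (X := X) k
  have hfin := Snapper.finite_support_topTerm (phi k 2 ![L, A]) (QCoh.isClosed_support_of_isCoh hF) hd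
    (Set.Subset.refl (CohB1.support F))
  have h := Kleiman.tc_eq_zero hi (Snapper.phi_sub_sum_mem k (Kleiman.inv_two hL hA.1) hF hd)
  rw [map_sub, sub_eq_zero, map_finsum (tc d i) hfin] at h
  rw [h]
  refine finsum_eq_zero_of_forall_eq_zero fun y => ?_
  by_cases hy : IsTop d y
  · rw [Snapper.topTerm_of _ hy, map_nsmul]
    let I := Scheme.IdealSheafData.vanishingIdeal (⟨closure ({y} : Set X), isClosed_closure⟩ : Closeds X)
    letI : I.subscheme.Over (Spec (CommRingCat.of k)) := ⟨I.subschemeι ≫ X ↘ Spec (CommRingCat.of k)⟩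
    haveI : IsProper (I.subscheme ↘ Spec (CommRingCat.of k)) :=
      inferInstanceAs (IsProper (I.subschemeι ≫ X ↘ Spec (CommRingCat.of k)))
    haveI : IsIntegral I.subscheme := Snapper.isIntegral_pt y
    rw [Kleiman.phi_pt k hL hA.1 y,
      H I.subscheme ?_ _ _ (Kleiman.isInv_pullback _ hL) (Kleiman.isNef_pullback k hn I.subschemeι rfl hL)
        (Ample.isAmple_pullback_of_isAffineHom I.subschemeι hA) (ht.pullback hL I.subschemeι rfl) i hmi hi,
      smul_zero]
    refine (IsHomeomorph.topologicalKrullDim_eq _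
      I.subschemeι.isClosedEmbedding.isEmbedding.toHomeomorph.isHomeomorph).trans ?_
    rw [Snapper.range_pt]
    exact hy
  · rw [Snapper.topTerm_eq_zero _ (fun h' => absurd h' hy), map_zero]

theorem phi_pullback_id {Y : Scheme.{u}} [Y.Over (Spec (CommRingCat.of k))] [IsProper (Y ↘ Spec (CommRingCat.of k))]
    {L : Y.Modules} (hL : PicF.IsInvertible L) (r : ℕ) :
    phi k r (fun _ => (Scheme.Modules.pullback (𝟙 Y)).obj L) (Coh.structureModule Y) =
      phi k r (fun _ => L) (Coh.structureModule Y) := by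
  have hcls : clsMod (Kleiman.isInv_pullback (𝟙 Y) hL) = clsMod hL :=
    (Cube.clsMod_eq_iff _ _).2 ⟨(Scheme.Modules.pullbackId Y).app L⟩
  funext n
  exact Kleiman.phi_eq_of_cls k (fun _ => Kleiman.isInv_pullback (𝟙 Y) hL) (fun _ => hL) _ (by simp only [hcls])

theorem vanHyp (k : Type u) [Field k] {m : ℕ} (hm : 1 ≤ m) (d : ℕ) : VanHyp k m d := by
  induction d with
  | zero => exact fun X _ _ _ _ L A _ _ _ _ i hmi hi => absurd hm (by omega)
  | succ e ih =>
    intro X _ _ _ hdim L A hL hn hA ht i hmi hi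
    haveI := Euler.isNoetherian_of_proper (X := X) k
    have hO := Kleiman.isCoh_O (X := X) k
    have hd : DimLT (CohB1.support (Coh.structureModule X)) (e + 1 + 1) :=
      (Kleiman.dimLT_univ hdim.le).mono fun _ _ => trivial
    have hlow : ∀ i, m ≤ i → i ≤ e → tc (e + 1) i (phi k 2 ![L, A] (Coh.structureModule X)) = 0 := by
      intro i hmi hi
      obtain ⟨j, Q, hj, hQ, hQd, hc⟩ := exists_cut k hdim hL hA
      have h := hc i hi
      rw [tc_eq_zero_of_hyp k ih hL hn hA ht hQ hQd hmi hi] at h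
      refine (mul_eq_zero.1 h.symm).resolve_left (mul_ne_zero ?_ ?_)
      · exact_mod_cast (show j ≠ 0 by omega)
      · exact_mod_cast (show e + 1 - i ≠ 0 by omega)
    rcases hi.lt_or_eq with hlt | rfl
    · exact hlow i hmi (Nat.lt_succ_iff.1 hlt)
    rcases hmi.lt_or_eq with hlt | rfl
    · have hme : m ≤ e := Nat.lt_succ_iff.1 hlt
      refine le_antisymm (not_lt.1 fun hpos => ?_) (Kleiman.tc_nonneg k hL hn hA hO hd le_rfl)
      obtain ⟨μ, hμ, hle⟩ := exists_mono_of_mixed_pos k hdim hL hn hA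
        (by rw [mixed_eq_tc k hL hA.1 hO hd]; exact mul_pos hpos (by exact_mod_cast (e + 1).factorial_pos))
      obtain ⟨Q, hQ, hQd, hrec⟩ := exists_recursion k hdim hL hA hle
      have h := hrec e le_rfl
      rw [hlow e hme le_rfl, tc_eq_zero_of_hyp k ih hL hn hA ht hQ hQd hme le_rfl, mul_zero, add_zero] at h
      have : (0 : ℚ) < (μ : ℚ) * ((e + 1 : ℕ) : ℚ) := mul_pos (by exact_mod_cast hμ) (by exact_mod_cast e.succ_pos)
      exact (mul_pos this hpos).ne' h
    · have h := ht X (𝟙 X) (Category.id_comp _) inferInstance hdim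
      rw [phi_pullback_id k hL, mixed_eq_tc k hL hA.1 hO hd] at h
      exact (mul_eq_zero.1 h).resolve_right (by exact_mod_cast (e + 1).factorial_ne_zero)

/-- The bound on the sections. -/
def H0Hyp (k : Type u) [Field k] (m d : ℕ) : Prop :=
  ∀ (X : Scheme.{u}) [X.Over (Spec (CommRingCat.of k))] [IsProper (X ↘ Spec (CommRingCat.of k))]
    (A L : X.Modules), CohB1.IsAmple A → PicF.IsInvertible L → NumR.IsNef k X L → NumTriv k m L →
    ∀ F : X.Modules, Coh.IsCoh F → DimLT (CohB1.support F) (d + 1) → Gr k L F 0 (m - 1)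

include k in
theorem h0_integral [IsIntegral X] {m d : ℕ} (hm : 1 ≤ m) (hmd : m ≤ d + 1) (ih : H0Hyp k m d)
    (hdim : topologicalKrullDim X = ((d + 1 : ℕ) : WithBot ℕ∞)) {A L : X.Modules} (hA : CohB1.IsAmple A)
    (hL : PicF.IsInvertible L) (hn : NumR.IsNef k X L) (ht : NumTriv k m L) :
    ∃ C : ℕ, ∀ n : ℕ, hc k (clsMod hL ^ n) 0 ≤ C * (n + 1) ^ (m - 1) := by
  haveI := Euler.isNoetherian_of_proper (X := X) k
  have hXd : DimLT (Set.univ : Set X) (d + 1 + 1) := Kleiman.dimLT_univ hdim.le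
  have hnb : ∀ μ : ℕ, ¬ PLe (clsMod hA.1) (clsMod hL ^ μ) := fun μ h => by
    have h1 := mixed_pos_of_pLe k hdim hL hn hA h
    rw [mixed_eq_tc k hL hA.1 (Kleiman.isCoh_O k) (hXd.mono fun _ _ => trivial),
      vanHyp k hm (d + 1) X hdim L A hL hn hA ht (d + 1) hmd le_rfl, zero_mul] at h1
    exact lt_irrefl _ h1
  obtain ⟨a, ha⟩ : ∃ a, a = clsMod hA.1 := ⟨_, rfl⟩
  obtain ⟨j₀, hj₀⟩ := Kodaira.exists_pLe_pow hA (1 : Pic X)
  rw [← ha] at hj₀ hnb
  have haj : PLe a (a ^ (j₀ + 1)) := by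
    have := (hj₀ j₀ le_rfl).mul_right a
    rwa [one_mul, ← pow_succ] at this
  obtain ⟨b, hb⟩ : ∃ b, b = a ^ (j₀ + 1) := ⟨_, rfl⟩
  rw [← hb] at haj
  have hle : PLe b⁻¹ 1 := by
    have := ((hb ▸ hj₀ (j₀ + 1) (Nat.le_succ _)) : PLe 1 b).mul_right b⁻¹
    rwa [one_mul, mul_inv_cancel] at this
  obtain ⟨Q, hQ, hQd, h⟩ := exists_quot k hXd hL hle
  obtain ⟨C, hC⟩ := ih X A L hA hL hn ht Q hQ hQd
  refine ⟨C, fun n => ?_⟩
  have h1 := (h n 0).1
  rw [one_mul] at h1
  have h2 : hc k (b⁻¹ * clsMod hL ^ n) 0 = 0 := by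
    by_contra hne
    have h3 := (pLe_of_h0_pos k (Nat.pos_of_ne_zero hne)).mul_right b
    rw [one_mul, mul_comm b⁻¹, mul_assoc, inv_mul_cancel, mul_one] at h3
    exact hnb n (haj.trans h3)
  rw [h2, zero_add] at h1
  exact h1.trans (hC n)

theorem h0Hyp (k : Type u) [Field k] {m : ℕ} (hm : 1 ≤ m) (d : ℕ) : H0Hyp k m d := by
  induction d with
  | zero =>
    intro X _ _ A L hA hL hn ht F hF hd
    obtain ⟨C, hC⟩ := Kodaira.h0_twist_bound k hA hL hF hd
    exact gr_mono (Nat.zero_le _) ⟨C, fun n => hC n⟩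
  | succ d ih =>
    intro X _ _ A L hA hL hn ht F hF hd
    haveI := Euler.isNoetherian_of_proper (X := X) k
    by_cases hmd : m ≤ d + 1
    swap
    · obtain ⟨C, hC⟩ := Kodaira.h0_twist_bound k hA hL hF hd
      exact gr_mono (by omega) ⟨C, fun n => hC n⟩
    refine QCoh.coh_induction (fun M => Gr k L M 0 (m - 1)) ?_ ?_ ?_ F hF ?_
    · rintro M N ⟨e⟩ ⟨C, hC⟩
      exact ⟨C, fun n => (hl_iso k ((tF _).mapIso e) 0).symm.le.trans (hC n)⟩
    · intro M hM
      refine ⟨0, fun n => ?_⟩
      haveI := Cohom.subsingleton_HH_of_isZero ((tF (CohB1.tensorPow L n)).map_isZero hM) 0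
      exact (Module.finrank_zero_of_subsingleton).le.trans (Nat.zero_le _)
    · rintro S hS a b c ⟨C₁, e₁⟩ ⟨C₃, e₃⟩
      refine ⟨C₁ + C₃, fun n => ?_⟩
      rw [Nat.add_mul]
      exact (hl_X₂_le k (Snapper.shortExact_twist hL n hS) (Snapper.isCoh_twist k hL a n)
        (Snapper.isCoh_twist k hL b n) (Snapper.isCoh_twist k hL c n) 0).trans (Nat.add_le_add (e₁ n) (e₃ n))
    intro Z i hi hZ N ι hι hN hN0 hsub
    let P := (Coh.push i).obj N
    have hP : Coh.IsCoh P := HodgeIndex.isCoh_push_piece k i hN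
    by_cases hsmall : DimLT (CohB1.support P) (d + 1)
    · exact ih X A L hA hL hn ht P hP hsmall
    let η := i (genericPoint Z)
    have hcl : closure ({η} : Set X) = Set.range i := QCoh.closure_singleton_eq_range i
    have hη : DimLT (closure ({η} : Set X)) (d + 1 + 1) :=
      (hd.mono hsub).mono ((QCoh.isClosed_support_of_isCoh hP).closure_subset_iff.2
        (Set.singleton_subset_iff.2 (QCoh.genericPoint_mem_support_push i N ι hN0)))
    have htop : IsTop (d + 1) η := Snapper.isTop_of hη fun h => hsmall (h.mono (by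
      rw [hcl]; exact QCoh.support_pushforward_subset_range i N))
    letI : Z.Over (Spec (CommRingCat.of k)) := ⟨i ≫ X ↘ Spec (CommRingCat.of k)⟩
    haveI : IsProper (Z ↘ Spec (CommRingCat.of k)) := inferInstanceAs (IsProper (i ≫ X ↘ Spec (CommRingCat.of k)))
    haveI := hZ
    have hZd : topologicalKrullDim Z = ((d + 1 : ℕ) : WithBot ℕ∞) := by
      refine (IsHomeomorph.topologicalKrullDim_eq _
        i.isClosedEmbedding.isEmbedding.toHomeomorph.isHomeomorph).trans ?_
      rw [← hcl]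
      exact htop
    have hO : Coh.IsCoh (Coh.structureModule Z) := Kleiman.isCoh_O (X := Z) k
    let P₀ := (Coh.push i).obj (Coh.structureModule Z)
    have hP₀ : Coh.IsCoh P₀ := HodgeIndex.isCoh_push_piece k i hO
    have hL' := Kleiman.isInv_pullback i hL
    obtain ⟨C, hC⟩ := h0_integral k hm hmd ih hZd (Ample.isAmple_pullback_of_isAffineHom i hA) hL'
      (Kleiman.isNef_pullback k hn i rfl hL) (ht.pullback hL i rfl)
    refine ⟨C, fun n => ?_⟩
    haveI : Mono ((Coh.push i).map ι) := (inferInstance : Mono ((Scheme.Modules.pushforward i).map ι))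
    let f : P ⟶ P₀ := (Coh.push i).map ι
    let S : ShortComplex X.Modules := ShortComplex.mk f (cokernel.π f) (cokernel.condition f)
    have hS : S.ShortExact :=
      haveI : Mono S.f := inferInstanceAs (Mono ((Coh.push i).map ι))
      haveI : Epi S.g := inferInstanceAs (Epi (cokernel.π f))
      { exact := ShortComplex.exact_of_g_is_cokernel _ (cokernelIsCokernel _) }
    haveI : Mono ((tF (CohB1.tensorPow L n)).map f) := (Snapper.shortExact_twist hL n hS).mono_f
    refine (Kodaira.h0_le_of_mono k ((tF (CohB1.tensorPow L n)).map f) (Snapper.isCoh_twist k hL hP₀ n)).trans ?_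
    obtain ⟨e⟩ := nonempty_tF_push i hL n
    haveI := (Euler.isCoh_of_isInvertible (Ample.isInvertible_tensorPow hL' n) :
      Coh.IsCoh (CohB1.tensorPow ((Scheme.Modules.pullback i).obj L) n)).1
    obtain ⟨e'⟩ := Snapper.nonempty_HH_linearEquiv_pushforward i rfl
      (CohB1.tensorPow ((Scheme.Modules.pullback i).obj L) n) 0 (A := k)
    rw [Kodaira.h0_of_iso k e]
    refine (le_of_eq e'.symm.finrank_eq).trans ?_
    show hl k (CohB1.tensorPow ((Scheme.Modules.pullback i).obj L) n) 0 ≤ _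
    rw [hl_eq_hc k (Ample.isInvertible_tensorPow hL' n) (Cube.clsMod_tensorPow hL' n)]
    exact hC n

include k in
/-- No numerically trivial `0`-th power. -/
theorem not_numTriv_zero [Nonempty X] {A L : X.Modules} (hA : CohB1.IsAmple A) : ¬ NumTriv k 0 L := by
  intro h
  haveI := Euler.isNoetherian_of_proper (X := X) k
  obtain ⟨x, -, hx⟩ := (isClosed_univ (X := X)).exists_closed_singleton Set.univ_nonempty
  let I := Scheme.IdealSheafData.vanishingIdeal (⟨closure ({x} : Set X), isClosed_closure⟩ : Closeds X)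
  letI : I.subscheme.Over (Spec (CommRingCat.of k)) := ⟨I.subschemeι ≫ X ↘ Spec (CommRingCat.of k)⟩
  haveI : IsProper (I.subscheme ↘ Spec (CommRingCat.of k)) :=
    inferInstanceAs (IsProper (I.subschemeι ≫ X ↘ Spec (CommRingCat.of k)))
  haveI : IsIntegral I.subscheme := Snapper.isIntegral_pt x
  have htop : IsTop 0 x := by
    refine Snapper.isTop_of (fun l hl => ?_) (Snapper.not_dimLT_zero ⟨x, subset_closure rfl⟩)
    rw [hx.closure_eq] at hl
    by_contra hlen
    push Not at hlen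
    have h1 : l ⟨0, by omega⟩ < l ⟨1, by omega⟩ := l.strictMono (Fin.mk_lt_mk.2 zero_lt_one)
    rw [show l ⟨0, by omega⟩ = x from hl _, show l ⟨1, by omega⟩ = x from hl _] at h1
    exact lt_irrefl _ h1
  have hdim : topologicalKrullDim I.subscheme = ((0 : ℕ) : WithBot ℕ∞) := by
    refine (IsHomeomorph.topologicalKrullDim_eq _
      I.subschemeι.isClosedEmbedding.isEmbedding.toHomeomorph.isHomeomorph).trans ?_
    rw [Snapper.range_pt]
    exact htop
  have hA' := Ample.isAmple_pullback_of_isAffineHom I.subschemeι hA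
  have hpos := Snapper.mixed_pos k 0 I.subscheme _ hA' (Coh.structureModule I.subscheme) (Kleiman.isCoh_O k)
    ((Kleiman.dimLT_univ hdim.le).mono fun _ _ => trivial)
    ⟨genericPoint I.subscheme, Kleiman.mem_support_structure _, Kleiman.isTop_genericPoint hdim⟩
  have h0 := h I.subscheme I.subschemeι rfl inferInstance hdim
  rw [show (fun _ : Fin 0 => (Scheme.Modules.pullback I.subschemeι).obj L) =
    fun _ : Fin 0 => (Scheme.Modules.pullback I.subschemeι).obj A from funext fun i => i.elim0] at h0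
  rw [h0] at hpos
  exact lt_irrefl _ hpos

end GrothLib.NefGrowth
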