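import Groth.Agent.Lib.CMReg.ProjSpace
import Groth.Agent.Lib.Ample.RelAmple

/-!
# A closed subscheme of projective space has an ample invertible module
-/

set_option autoImplicit false
set_option backward.isDefEq.respectTransparency false
set_option linter.all false

universe u

open CategoryTheory CategoryTheory.Limits AlgebraicGeometry TopologicalSpace

noncomputable section

namespace GrothLib.NefGrowth

theorem exists_isAmple_of_projSpace {k : Type u} [Field k] {X : Scheme.{u}} {n : ℕ}
    (ι : X ⟶ CohB1.ProjSpace n k) [IsClosedImmersion ι] : ∃ H : X.Modules, CohB1.IsAmple H := by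
  haveI : AlgebraicGeometry.IsNoetherian (CohB1.ProjSpace n k) := CMReg.isNoetherian_projSpace
  have hamp : CohB1.IsAmple (Twist.twist (CohB1.polyGrading n k) ((1 : ℕ) : ℤ)) :=
    haveI : CompactSpace (Proj (CohB1.polyGrading n k)) := inferInstanceAs (CompactSpace (CohB1.ProjSpace n k))
    GrTilde.isAmple_twist_of_cover one_pos CMReg.exists_notMem
  exact ⟨_, Ample.isAmple_pullback_of_isAffineHom (Y := X) (X := CohB1.ProjSpace n k) ι hamp⟩

end GrothLib.NefGrowth
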