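import Groth.Agent.Lib.HodgeIndex.Form
import Groth.Agent.Lib.Kodaira.Big

/-!
# Cohomology of powers of a nef module: `h^i(F ⊗ L^n) = O(n^{d-1})` for `i ≥ 1`
-/

set_option autoImplicit false
set_option backward.isDefEq.respectTransparency false
set_option linter.all false

universe u

open CategoryTheory CategoryTheory.Limits AlgebraicGeometry TopologicalSpace

noncomputable section

namespace GrothLib.NefGrowth

open GrothLib.Euler (tF)
open GrothLib.Snapper (DimLT IsTop phi mixed polyLT)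
open GrothLib.Cube (Pic clsMod)
open GrothLib.Kodaira (PLe h0)
open GrothLib.HodgeIndex (rep isInv_rep cls_rep)
open GrothLib.QCoh (stalkLin)
open GrothLib.Kleiman (tc)

variable {X : Scheme.{u}} (k : Type u) [Field k] [X.Over (Spec (CommRingCat.of k))]

/-- The dimension of a cohomology space. -/
def hl (F : X.Modules) (l : ℕ) : ℕ := Module.finrank k (Coh.HH X F l)

theorem hl_iso {F G : X.Modules} (e : F ≅ G) (l : ℕ) : hl k F l = hl k G l :=
  (Euler.hhEquiv (A := k) e l).finrank_eq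

/-- The dimension of a cohomology space of a class. -/
def hc (x : Pic X) (l : ℕ) : ℕ := hl k (rep x) l

theorem hl_eq_hc {M : X.Modules} (hM : PicF.IsInvertible M) {x : Pic X} (h : clsMod hM = x) (l : ℕ) :
    hl k M l = hc k x l := by
  obtain ⟨e⟩ := (Cube.clsMod_eq_iff hM (isInv_rep x)).1 (by rw [cls_rep, h])
  exact hl_iso k e l

theorem le_of_step' {h g : ℕ → ℕ} {m d C : ℕ} (hm : 0 < m) (hstep : ∀ n, h (n + m) ≤ h n + g n)
    (hg : ∀ n, g n ≤ C * (n + 1) ^ (d - 1)) (hg0 : d = 0 → ∀ n, g n = 0) : ∃ A, ∀ n, h n ≤ A * (n + 1) ^ d := by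
  cases d with
  | zero =>
    obtain ⟨A, hA⟩ := Snapper.le_of_step_zero hm fun n => (hstep n).trans (by rw [hg0 rfl n, add_zero])
    exact ⟨A, fun n => by simpa using hA n⟩
  | succ d => exact Snapper.le_of_step hm fun n => (hstep n).trans (Nat.add_le_add_left (hg n) _)

variable [IsProper (X ↘ Spec (CommRingCat.of k))]

theorem hl_X₂_le {S : ShortComplex X.Modules} (hS : S.ShortExact) (h₁ : Coh.IsCoh S.X₁) (h₂ : Coh.IsCoh S.X₂)
    (h₃ : Coh.IsCoh S.X₃) (l : ℕ) : hl k S.X₂ l ≤ hl k S.X₁ l + hl k S.X₃ l := by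
  haveI := Euler.finiteDimensional_HH k h₁ l
  haveI := Euler.finiteDimensional_HH k h₂ l
  haveI := Euler.finiteDimensional_HH k h₃ l
  exact Snapper.exact_finrank_le k (Cohom.exact₂ hS l)

theorem hl_X₁_le {S : ShortComplex X.Modules} (hS : S.ShortExact) (h₁ : Coh.IsCoh S.X₁) (h₂ : Coh.IsCoh S.X₂)
    (h₃ : Coh.IsCoh S.X₃) (l : ℕ) : hl k S.X₁ (l + 1) ≤ hl k S.X₃ l + hl k S.X₂ (l + 1) := by
  haveI := Euler.finiteDimensional_HH k h₁ (l + 1)
  haveI := Euler.finiteDimensional_HH k h₂ (l + 1)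
  haveI := Euler.finiteDimensional_HH k h₃ l
  exact Snapper.exact_finrank_le k (Cohom.exact₁ hS l)

/-- The bound `h^l(F ⊗ L^n) = O(n^e)`. -/
def Gr (L F : X.Modules) (l e : ℕ) : Prop :=
  ∃ C : ℕ, ∀ n : ℕ, hl k ((tF (CohB1.tensorPow L n)).obj F) l ≤ C * (n + 1) ^ e

variable {k}

theorem gr_mono {L F : X.Modules} {l e e' : ℕ} (he : e ≤ e') (h : Gr k L F l e) : Gr k L F l e' := by
  obtain ⟨C, hC⟩ := h
  exact ⟨C, fun n => (hC n).trans (Nat.mul_le_mul_left C (Nat.pow_le_pow_right (Nat.succ_pos n) he))⟩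

theorem hl_small_zero {A L F : X.Modules} (hA : CohB1.IsAmple A) (hL : PicF.IsInvertible L) (hF : Coh.IsCoh F)
    (hd : DimLT (CohB1.support F) 1) {l : ℕ} (hl' : 1 ≤ l) (n : ℕ) :
    hl k ((tF (CohB1.tensorPow L n)).obj F) l = 0 := by
  haveI := HodgeIndex.subsingleton_HH_of_dimLT k hA 1 _ (Snapper.isCoh_twist k hL hF n)
    (hd.mono (Snapper.support_twist_subset hL n)) l hl'
  exact Module.finrank_zero_of_subsingleton

variable (k)

include k in
/-- The top coefficient is the self-intersection. -/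
theorem mixed_eq_tc {L A F : X.Modules} (hL : PicF.IsInvertible L) (hA : PicF.IsInvertible A) (hF : Coh.IsCoh F)
    {d : ℕ} (hd : DimLT (CohB1.support F) (d + 1)) :
    mixed d (phi k d (fun _ => L) F) = tc d d (phi k 2 ![L, A] F) * (d.factorial : ℚ) := by
  rw [Kleiman.lead_eq k hL hA hL (p := 1) (q := 0) (by simp) hF hd, Finset.sum_range_succ,
    Finset.sum_eq_zero fun i hi => by
      rw [Nat.cast_zero, zero_pow (by have := Finset.mem_range.1 hi; omega), mul_zero]]
  simp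

include k in
/-- The leading term of `χ(F ⊗ L^n)`. -/
theorem exists_euler_lead {L F : X.Modules} (hL : PicF.IsInvertible L) (hF : Coh.IsCoh F) {d : ℕ}
    (hd : DimLT (CohB1.support F) (d + 1)) :
    ∃ a K : ℚ, mixed d (phi k d (fun _ => L) F) = a * (d.factorial : ℚ) ∧
      ∀ n : ℕ, |(Curv2.euler k X ((tF (CohB1.tensorPow L n)).obj F) : ℚ) - a * (n : ℚ) ^ d| ≤
        K * ((n : ℚ) + 1) ^ (d - 1) := by
  obtain ⟨a, ha⟩ := Snapper.exists_lead
    (Snapper.phi_mem_polyLT k (r := 1) (L := fun _ => L) (fun _ => hL) (d + 1) F hF hd)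
  obtain ⟨K, hK⟩ := Snapper.exists_abs_le_of_mem ha
  refine ⟨a, K, by rw [Snapper.phi_const_comp, Snapper.mixed_comp_sumArg ha], fun n => ?_⟩
  have h := hK n
  simp only [Pi.sub_apply, Pi.smul_apply, smul_eq_mul, Snapper.mono, Fin.prod_univ_one] at h
  rw [Snapper.phi_const_eq, Fin.sum_univ_one] at h
  exact h

include k in
theorem euler_lower {L A F : X.Modules} (hL : PicF.IsInvertible L) (hn : NumR.IsNef k X L)
    (hA : CohB1.IsAmple A) (hF : Coh.IsCoh F) {d : ℕ} (hd : DimLT (CohB1.support F) (d + 1)) :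
    ∃ K : ℕ, ∀ n : ℕ, -((K : ℚ) * ((n : ℚ) + 1) ^ (d - 1)) ≤
      (Curv2.euler k X ((tF (CohB1.tensorPow L n)).obj F) : ℚ) := by
  obtain ⟨a, K, ha, hK⟩ := exists_euler_lead k hL hF hd
  have h0 : 0 ≤ tc d d (phi k 2 ![L, A] F) := Kleiman.tc_nonneg k hL hn hA hF hd le_rfl
  rw [mixed_eq_tc k hL hA.1 hF hd] at ha
  have ha0 : 0 ≤ a := by
    have := mul_right_cancel₀ (Nat.cast_ne_zero.2 d.factorial_ne_zero) ha
    rwa [← this]
  refine ⟨⌈|K|⌉₊, fun n => ?_⟩
  have h := (abs_le.1 (hK n)).1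
  have hp : (0 : ℚ) ≤ ((n : ℚ) + 1) ^ (d - 1) := by positivity
  have h2 : K * ((n : ℚ) + 1) ^ (d - 1) ≤ (⌈|K|⌉₊ : ℚ) * ((n : ℚ) + 1) ^ (d - 1) :=
    mul_le_mul_of_nonneg_right ((le_abs_self K).trans (Nat.le_ceil _)) hp
  have h3 : 0 ≤ a * (n : ℚ) ^ d := mul_nonneg ha0 (by positivity)
  linarith

section Integral

variable [IsIntegral X]

include k in
/-- A monomorphism of classes and its cokernel. -/
theorem exists_quot {d : ℕ} (hX : DimLT (Set.univ : Set X) (d + 1)) {L : X.Modules} (hL : PicF.IsInvertible L)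
    {x y : Pic X} (h : PLe x y) :
    ∃ Q : X.Modules, Coh.IsCoh Q ∧ DimLT (CohB1.support Q) d ∧ ∀ n l : ℕ,
      hc k (y * clsMod hL ^ n) l ≤ hc k (x * clsMod hL ^ n) l + hl k ((tF (CohB1.tensorPow L n)).obj Q) l ∧
      hc k (x * clsMod hL ^ n) (l + 1) ≤
        hl k ((tF (CohB1.tensorPow L n)).obj Q) l + hc k (y * clsMod hL ^ n) (l + 1) := by
  haveI := Euler.isNoetherian_of_proper (X := X) k
  obtain ⟨f, hf⟩ := (Kodaira.pLe_iff (isInv_rep x) (isInv_rep y)).1 (by rwa [cls_rep, cls_rep])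
  have hx : Coh.IsCoh (rep x) := Euler.isCoh_of_isInvertible (isInv_rep x)
  have hy : Coh.IsCoh (rep y) := Euler.isCoh_of_isInvertible (isInv_rep y)
  have hQ : Coh.IsCoh (cokernel f) := QCoh.isCoh_cokernel f hx hy
  let S : ShortComplex X.Modules := ShortComplex.mk f (cokernel.π f) (cokernel.condition f)
  have hS : S.ShortExact :=
    haveI : Mono S.f := hf
    haveI : Epi S.g := inferInstanceAs (Epi (cokernel.π f))
    { exact := ShortComplex.exact_of_g_is_cokernel _ (cokernelIsCokernel _) }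
  have hcl : closure ({genericPoint X} : Set X) = Set.univ := genericPoint_closure X
  refine ⟨cokernel f, hQ, ?_, fun n l => ?_⟩
  · exact Snapper.dimLT_of_notMem (η := genericPoint X) (by rw [hcl]; exact hX)
      (by rw [hcl]; exact Set.subset_univ _)
      (QCoh.notMem_support_cokernel_of_surjective f (Euler.stalkLin_genericPoint_bijective (isInv_rep x)
        (isInv_rep y) (Kodaira.exists_ne_zero_of_mono (isInv_rep x) f)).2)
  · have hn := Ample.isInvertible_tensorPow hL n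
    have ex : hl k ((tF (CohB1.tensorPow L n)).obj (rep x)) = hc k (x * clsMod hL ^ n) := funext fun l =>
      hl_eq_hc k (Ample.isInvertible_tensorMod (isInv_rep x) hn)
        (by rw [Cube.clsMod_tensorMod (isInv_rep x) hn, cls_rep, Cube.clsMod_tensorPow hL]) l
    have ey : hl k ((tF (CohB1.tensorPow L n)).obj (rep y)) = hc k (y * clsMod hL ^ n) := funext fun l =>
      hl_eq_hc k (Ample.isInvertible_tensorMod (isInv_rep y) hn)
        (by rw [Cube.clsMod_tensorMod (isInv_rep y) hn, cls_rep, Cube.clsMod_tensorPow hL]) l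
    rw [← congrFun ex, ← congrFun ey, ← congrFun ex, ← congrFun ey]
    exact ⟨hl_X₂_le k (Snapper.shortExact_twist hL n hS) (Snapper.isCoh_twist k hL hx n)
        (Snapper.isCoh_twist k hL hy n) (Snapper.isCoh_twist k hL hQ n) l,
      hl_X₁_le k (Snapper.shortExact_twist hL n hS) (Snapper.isCoh_twist k hL hx n)
        (Snapper.isCoh_twist k hL hy n) (Snapper.isCoh_twist k hL hQ n) l⟩

include k in
theorem pLe_of_h0_pos {x : Pic X} (h : 0 < hc k x 0) : PLe 1 x := by
  haveI := Euler.isNoetherian_of_proper (X := X) k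
  obtain ⟨σ, hσ⟩ := Euler.exists_ne_zero_section (Module.nontrivial_of_finrank_pos h)
  rw [← cls_rep x, ← (Cube.clsMod_eq_one_iff (Euler.isInvertible_structure (X := X))).2 ⟨Iso.refl _⟩]
  exact (Kodaira.pLe_iff _ _).2 ⟨FinCov.homOfSection σ, Euler.mono_homOfSection (isInv_rep x) hσ⟩

end Integral

/-- The statement on all proper schemes with an ample module. -/
def GrHyp (k : Type u) [Field k] (d : ℕ) : Prop :=
  ∀ (X : Scheme.{u}) [X.Over (Spec (CommRingCat.of k))] [IsProper (X ↘ Spec (CommRingCat.of k))]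
    (A L : X.Modules), CohB1.IsAmple A → PicF.IsInvertible L → NumR.IsNef k X L →
    ∀ F : X.Modules, Coh.IsCoh F → DimLT (CohB1.support F) (d + 1) → ∀ l, 1 ≤ l → Gr k L F l (d - 1)

include k in
/-- The integral case. -/
theorem gr_structure [IsIntegral X] {d : ℕ} (ih : GrHyp k d) (hX : DimLT (Set.univ : Set X) (d + 1 + 1))
    {A L : X.Modules} (hA : CohB1.IsAmple A) (hL : PicF.IsInvertible L) (hn : NumR.IsNef k X L) {l : ℕ}
    (hl1 : 1 ≤ l) : ∃ C : ℕ, ∀ n : ℕ, hc k (clsMod hL ^ n) l ≤ C * (n + 1) ^ d := by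
  haveI := Euler.isNoetherian_of_proper (X := X) k
  obtain ⟨z, hz⟩ : ∃ z, z = clsMod hL := ⟨_, rfl⟩
  obtain ⟨a, ha⟩ : ∃ a, a = clsMod hA.1 := ⟨_, rfl⟩
  have hsmall : ∀ Q : X.Modules, Coh.IsCoh Q → DimLT (CohB1.support Q) (d + 1) → ∀ l, 1 ≤ l →
      ∃ C : ℕ, (∀ n, hl k ((tF (CohB1.tensorPow L n)).obj Q) l ≤ C * (n + 1) ^ (d - 1)) ∧
        (d = 0 → ∀ n, hl k ((tF (CohB1.tensorPow L n)).obj Q) l = 0) := fun Q hQ hQd l hl => by
    obtain ⟨C, hC⟩ := ih X A L hA hL hn Q hQ hQd l hl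
    exact ⟨C, hC, fun h n => hl_small_zero hA hL hQ (by subst h; exact hQd) hl n⟩
  have htop : ∀ l : ℕ, 2 ≤ l → ∃ C : ℕ, ∀ n : ℕ, hc k (z ^ n) l ≤ C * (n + 1) ^ d := by
    intro l hl2
    obtain ⟨l, rfl⟩ : ∃ l', l = l' + 2 := ⟨l - 2, by omega⟩
    obtain ⟨j₁, hj₁⟩ := Kodaira.exists_pLe_pow hA (1 : Pic X)
    obtain ⟨j₂, hj₂⟩ := Kodaira.exists_pLe_pow hA z
    obtain ⟨Q₁, hQ₁, hQ₁d, h₁⟩ := exists_quot k hX hL (hj₁ (max j₁ j₂) (le_max_left _ _))
    obtain ⟨Q₂, hQ₂, hQ₂d, h₂⟩ := exists_quot k hX hL (hj₂ (max j₁ j₂) (le_max_right _ _))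
    obtain ⟨C₁, hC₁, hC₁0⟩ := hsmall Q₁ hQ₁ hQ₁d (l + 2) (by omega)
    obtain ⟨C₂, hC₂, hC₂0⟩ := hsmall Q₂ hQ₂ hQ₂d (l + 1) (by omega)
    refine le_of_step' (g := fun n => hl k ((tF (CohB1.tensorPow L n)).obj Q₂) (l + 1) +
      hl k ((tF (CohB1.tensorPow L n)).obj Q₁) (l + 2)) (C := C₂ + C₁) one_pos (fun n => ?_)
      (fun n => ?_) fun h n => ?_
    · have e1 := (h₂ n (l + 1)).2
      have e2 := (h₁ n (l + 2)).1
      rw [← hz, one_mul] at e2
      rw [← hz, ← pow_succ', show l + 1 + 1 = l + 2 from rfl] at e1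
      omega
    · rw [Nat.add_mul]
      exact Nat.add_le_add (hC₂ n) (hC₁ n)
    · rw [hC₂0 h n, hC₁0 h n]
  rw [← hz]
  rcases Nat.eq_or_lt_of_le hl1 with hl' | hl'
  swap
  · exact htop l hl'
  subst hl'
  by_cases hsec : ∃ m, 0 < m ∧ PLe 1 (z ^ m)
  · obtain ⟨m, hm, hle⟩ := hsec
    obtain ⟨Q, hQ, hQd, h⟩ := exists_quot k hX hL hle
    obtain ⟨C, hC, hC0⟩ := hsmall Q hQ hQd 1 le_rfl
    refine le_of_step' hm (fun n => ?_) hC hC0
    have e := (h n 1).1
    rw [← hz, one_mul, ← pow_add, add_comm m n] at e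
    exact e
  obtain ⟨N, hN⟩ := Euler.exists_bound (X := X) k
  choose C hC using fun i : ℕ => htop (i + 2) (by omega)
  obtain ⟨K, hK⟩ := euler_lower k hL hn hA (Kleiman.isCoh_O (X := X) k)
    (d := d + 1) (hX.mono fun _ _ => trivial)
  refine ⟨hc k (z ^ 0) 1 + K + ∑ i ∈ Finset.range N, C i, fun n => ?_⟩
  have hp : 1 ≤ (n + 1) ^ d := Nat.one_le_pow _ _ n.succ_pos
  rcases Nat.eq_zero_or_pos n with rfl | hn0
  · refine le_trans ?_ (Nat.le_mul_of_pos_right _ hp)
    omega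
  have h00 : hc k (z ^ n) 0 = 0 := by
    by_contra h
    exact hsec ⟨n, hn0, pLe_of_h0_pos k (Nat.pos_of_ne_zero h)⟩
  have hzn : clsMod (Ample.isInvertible_tensorPow hL n) = z ^ n := by rw [Cube.clsMod_tensorPow hL, hz]
  have hcoh : Coh.IsCoh (rep (z ^ n)) := Euler.isCoh_of_isInvertible (isInv_rep _)
  have hχ : Curv2.euler k X ((tF (CohB1.tensorPow L n)).obj (Coh.structureModule X)) =
      Curv2.euler k X (rep (z ^ n)) := by
    obtain ⟨e⟩ := (Cube.clsMod_eq_iff (Ample.isInvertible_tensorPow hL n) (isInv_rep (z ^ n))).1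
      (by rw [hzn, cls_rep])
    exact Euler.euler_of_iso k (OX.tensorUnitLeftIso _ ≪≫ e)
  have h1 : -((K : ℚ) * ((n : ℚ) + 1) ^ d) ≤ (Curv2.euler k X (rep (z ^ n)) : ℚ) := by
    rw [← hχ]
    exact hK n
  haveI := hcoh.1
  have h2 : (Curv2.euler k X (rep (z ^ n)) : ℤ) ≤
      -(hc k (z ^ n) 1 : ℤ) + ∑ i ∈ Finset.range N, (hc k (z ^ n) (i + 2) : ℤ) := by
    rw [Euler.euler_eq_sum k (rep (z ^ n)) (N := N + 2) (fun i hi => hN _ i (by omega)),
      Finset.sum_range_succ', Finset.sum_range_succ']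
    have hsum : (∑ i ∈ Finset.range N, ((-1 : ℤ) ^ (i + 1 + 1) * (hc k (z ^ n) (i + 1 + 1) : ℤ))) ≤
        ∑ i ∈ Finset.range N, (hc k (z ^ n) (i + 2) : ℤ) := Finset.sum_le_sum fun i _ => by
      rw [show i + 1 + 1 = i + 2 from rfl]
      exact (mul_le_mul_of_nonneg_right (le_abs_self _) (Nat.cast_nonneg _)).trans (by simp)
    simp only [hc, hl] at hsum h00 ⊢
    simp only [pow_zero, pow_one, one_mul, neg_one_mul, zero_add, h00, Nat.cast_zero, add_zero] at hsum ⊢
    linarith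
  have h3 : (∑ i ∈ Finset.range N, (hc k (z ^ n) (i + 2) : ℚ)) ≤
      (∑ i ∈ Finset.range N, (C i : ℚ)) * ((n : ℚ) + 1) ^ d := by
    rw [Finset.sum_mul]
    exact Finset.sum_le_sum fun i _ => by exact_mod_cast hC i n
  have h4 : (Curv2.euler k X (rep (z ^ n)) : ℚ) ≤
      -(hc k (z ^ n) 1 : ℚ) + ∑ i ∈ Finset.range N, (hc k (z ^ n) (i + 2) : ℚ) := by exact_mod_cast h2
  have h5 : (0 : ℚ) ≤ (hc k (z ^ 0) 1 : ℚ) * ((n : ℚ) + 1) ^ d := by positivity
  have h6 : (hc k (z ^ n) 1 : ℚ) ≤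
      ((hc k (z ^ 0) 1 + K + ∑ i ∈ Finset.range N, C i : ℕ) : ℚ) * (((n + 1) ^ d : ℕ) : ℚ) := by
    push_cast
    simp only [add_mul]
    linarith
  exact_mod_cast h6

theorem stalk_surjective_piece {Z : Scheme.{u}} (i : Z ⟶ X) [IsClosedImmersion i] [IsIntegral Z]
    (N : Z.Modules) (ι : N ⟶ Coh.structureModule Z) [Mono ι] (hN : ¬ IsZero N) :
    Function.Surjective (stalkLin ((Coh.push i).map ι) (i (genericPoint Z))) := by
  intro w
  obtain ⟨n, hn⟩ : ∃ n : ((Coh.push i).obj N).presheaf.stalk (i (genericPoint Z)), n ≠ 0 := by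
    by_contra h
    push Not at h
    exact QCoh.genericPoint_mem_support_push i N ι hN (subsingleton_of_forall_eq 0 h)
  haveI : Mono ((Coh.push i).map ι) := (inferInstance : Mono ((Scheme.Modules.pushforward i).map ι))
  obtain ⟨r, hr⟩ := QCoh.exists_smul_pushOne_eq i (stalkLin ((Coh.push i).map ι) (i (genericPoint Z)) n)
  obtain ⟨s, hs'⟩ := QCoh.exists_smul_pushOne_eq i w
  have hr0 : (i.stalkMap (genericPoint Z)).hom r ≠ 0 := fun h => hn <| by
    refine QCoh.stalkLin_injective ((Coh.push i).map ι) (i (genericPoint Z)) ?_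
    rw [map_zero, ← hr]
    exact (QCoh.smul_pushOne_eq_zero_iff i r).2 h
  have hu : IsUnit r := (isUnit_map_iff (i.stalkMap (genericPoint Z)).hom r).1
    (IsUnit.mk0 (G₀ := Z.functionField) _ hr0)
  refine ⟨(s * ((hu.unit⁻¹ : _ˣ) : X.presheaf.stalk (i (genericPoint Z)))) • n, ?_⟩
  rw [map_smul, ← hr, smul_smul, mul_assoc, IsUnit.val_inv_mul, mul_one]
  exact hs'

theorem nonempty_tF_push {Z : Scheme.{u}} (i : Z ⟶ X) [IsClosedImmersion i] {L : X.Modules}
    (hL : PicF.IsInvertible L) (n : ℕ) :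
    Nonempty ((tF (CohB1.tensorPow L n)).obj ((Coh.push i).obj (Coh.structureModule Z)) ≅
      (Coh.push i).obj (CohB1.tensorPow ((Scheme.Modules.pullback i).obj L) n)) := by
  let E := CohB1.tensorPow L n
  have hE := Ample.isInvertible_tensorPow hL n
  haveI := ProjFormula.isIso_projHom i (Euler.isFinLocFree_of_isInvertible hE) (Coh.structureModule Z)
  let e₁ : (tF E).obj ((Coh.push i).obj (Coh.structureModule Z)) ≅
      (Coh.push i).obj ((Scheme.Modules.pullback i).obj E) :=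
    ((OX.tensorBraiding (X := X)).app E).app _ ≪≫ asIso (ProjFormula.projHom i E (Coh.structureModule Z)) ≪≫
      (Scheme.Modules.pushforward i).mapIso (Euler.tFUnitIso _)
  have hL' := Kleiman.isInv_pullback i hL
  obtain ⟨e₂⟩ : Nonempty ((Scheme.Modules.pullback i).obj E ≅ CohB1.tensorPow ((Scheme.Modules.pullback i).obj L) n) :=
    (Cube.clsMod_eq_iff (Kleiman.isInv_pullback i hE) (Ample.isInvertible_tensorPow hL' n)).1 (by
      rw [Cube.clsMod_tensorPow hL', Cube.clsMod_pullback i hE, Cube.clsMod_pullback i hL,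
        Cube.clsMod_tensorPow hL, map_pow])
  exact ⟨e₁ ≪≫ (Coh.push i).mapIso e₂⟩

/-- The cohomology of powers of a nef module grows slowly in positive degrees. -/
theorem grHyp (k : Type u) [Field k] (d : ℕ) : GrHyp k d := by
  induction d with
  | zero =>
    intro X _ _ A L hA hL hn F hF hd l hl1
    exact ⟨0, fun n => (hl_small_zero hA hL hF hd hl1 n).le.trans (by simp)⟩
  | succ d ih =>
    intro X _ _ A L hA hL hn F hF hd
    haveI := Euler.isNoetherian_of_proper (X := X) k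
    refine QCoh.coh_induction (fun M => ∀ l, 1 ≤ l → Gr k L M l (d + 1 - 1)) ?_ ?_ ?_ F hF ?_
    · rintro M N ⟨e⟩ h l hl1
      obtain ⟨C, hC⟩ := h l hl1
      exact ⟨C, fun n => (hl_iso k ((tF _).mapIso e) l).symm.le.trans (hC n)⟩
    · intro M hM l hl1
      refine ⟨0, fun n => ?_⟩
      haveI := Cohom.subsingleton_HH_of_isZero ((tF (CohB1.tensorPow L n)).map_isZero hM) l
      exact (Module.finrank_zero_of_subsingleton).le.trans (Nat.zero_le _)
    · intro S hS a b c h₁ h₃ l hl1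
      obtain ⟨C₁, e₁⟩ := h₁ l hl1
      obtain ⟨C₃, e₃⟩ := h₃ l hl1
      refine ⟨C₁ + C₃, fun n => ?_⟩
      rw [Nat.add_mul]
      exact (hl_X₂_le k (Snapper.shortExact_twist hL n hS) (Snapper.isCoh_twist k hL a n)
        (Snapper.isCoh_twist k hL b n) (Snapper.isCoh_twist k hL c n) l).trans (Nat.add_le_add (e₁ n) (e₃ n))
    intro Z i hi hZ N ι hι hN hN0 hsub l hl1
    let P := (Coh.push i).obj N
    have hP : Coh.IsCoh P := HodgeIndex.isCoh_push_piece k i hN
    by_cases hsmall : DimLT (CohB1.support P) (d + 1)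
    · exact gr_mono (by omega) (ih X A L hA hL hn P hP hsmall l hl1)
    let η := i (genericPoint Z)
    have hcl : closure ({η} : Set X) = Set.range i := QCoh.closure_singleton_eq_range i
    have hη : DimLT (closure ({η} : Set X)) (d + 1 + 1) :=
      (hd.mono hsub).mono ((QCoh.isClosed_support_of_isCoh hP).closure_subset_iff.2
        (Set.singleton_subset_iff.2 (QCoh.genericPoint_mem_support_push i N ι hN0)))
    letI : Z.Over (Spec (CommRingCat.of k)) := ⟨i ≫ X ↘ Spec (CommRingCat.of k)⟩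
    haveI : IsProper (Z ↘ Spec (CommRingCat.of k)) := inferInstanceAs (IsProper (i ≫ X ↘ Spec (CommRingCat.of k)))
    haveI := hZ
    have hZd : DimLT (Set.univ : Set Z) (d + 1 + 1) := by
      refine Kleiman.dimLT_univ ((IsHomeomorph.topologicalKrullDim_eq _
        i.isClosedEmbedding.isEmbedding.toHomeomorph.isHomeomorph).le.trans ?_)
      rw [← hcl]
      exact Snapper.dim_le_of_dimLT isClosed_closure hη
    have hO : Coh.IsCoh (Coh.structureModule Z) := Kleiman.isCoh_O (X := Z) k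
    let P₀ := (Coh.push i).obj (Coh.structureModule Z)
    have hP₀ : Coh.IsCoh P₀ := HodgeIndex.isCoh_push_piece k i hO
    have hL' := Kleiman.isInv_pullback i hL
    have h0gr : ∀ l, 1 ≤ l → Gr k L P₀ l d := by
      intro l hl1
      obtain ⟨C, hC⟩ := gr_structure k ih hZd (Ample.isAmple_pullback_of_isAffineHom i hA) hL'
        (Kleiman.isNef_pullback k hn i rfl hL) hl1
      refine ⟨C, fun n => ?_⟩
      obtain ⟨e⟩ := nonempty_tF_push i hL n
      haveI := (Euler.isCoh_of_isInvertible (Ample.isInvertible_tensorPow hL' n) :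
        Coh.IsCoh (CohB1.tensorPow ((Scheme.Modules.pullback i).obj L) n)).1
      obtain ⟨e'⟩ := Snapper.nonempty_HH_linearEquiv_pushforward i rfl
        (CohB1.tensorPow ((Scheme.Modules.pullback i).obj L) n) l (A := k)
      rw [hl_iso k e l]
      refine (le_of_eq e'.symm.finrank_eq).trans ?_
      show hl k (CohB1.tensorPow ((Scheme.Modules.pullback i).obj L) n) l ≤ _
      rw [hl_eq_hc k (Ample.isInvertible_tensorPow hL' n) (Cube.clsMod_tensorPow hL' n)]
      exact hC n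
    let f : P ⟶ P₀ := (Coh.push i).map ι
    haveI : Mono f := (inferInstance : Mono ((Scheme.Modules.pushforward i).map ι))
    let Q := cokernel f
    have hQ : Coh.IsCoh Q := QCoh.isCoh_cokernel f hP hP₀
    let S : ShortComplex X.Modules := ShortComplex.mk f (cokernel.π f) (cokernel.condition f)
    have hS : S.ShortExact :=
      haveI : Mono S.f := ‹Mono f›
      haveI : Epi S.g := inferInstanceAs (Epi (cokernel.π f))
      { exact := ShortComplex.exact_of_g_is_cokernel _ (cokernelIsCokernel _) }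
    have hQd : DimLT (CohB1.support Q) (d + 1) :=
      Snapper.dimLT_of_notMem hη
        (hcl ▸ (QCoh.support_subset_of_epi (cokernel.π f)).trans (QCoh.support_pushforward_subset_range i _))
        (QCoh.notMem_support_cokernel_of_surjective f (stalk_surjective_piece i N ι hN0))
    obtain ⟨l, rfl⟩ : ∃ l', l = l' + 1 := ⟨l - 1, by omega⟩
    obtain ⟨C₀, hC₀⟩ := h0gr (l + 1) hl1
    obtain ⟨C₁, hC₁⟩ : Gr k L Q l d := by
      rcases Nat.eq_zero_or_pos l with rfl | hl0
      · obtain ⟨C, hC⟩ := Kodaira.h0_twist_bound k hA hL hQ hQd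
        exact ⟨C, fun n => hC n⟩
      · exact gr_mono (by omega) (ih X A L hA hL hn Q hQ hQd l hl0)
    refine ⟨C₁ + C₀, fun n => ?_⟩
    rw [Nat.add_sub_cancel, Nat.add_mul]
    exact (hl_X₁_le k (Snapper.shortExact_twist hL n hS) (Snapper.isCoh_twist k hL hP n)
      (Snapper.isCoh_twist k hL hP₀ n) (Snapper.isCoh_twist k hL hQ n) l).trans
        (Nat.add_le_add (hC₁ n) (hC₀ n))

include k in
/-- The growth of the higher cohomology of the powers of a nef module. -/
theorem growth_hpos_nef {A L F : X.Modules} (hA : CohB1.IsAmple A) (hL : PicF.IsInvertible L)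
    (hn : NumR.IsNef k X L) (hF : Coh.IsCoh F) {d : ℕ} (hd : DimLT (CohB1.support F) (d + 1)) :
    Snapper.Growth k L F (d - 1) := by
  haveI := Euler.isNoetherian_of_proper (X := X) k
  obtain ⟨N, hN⟩ := Euler.exists_bound (X := X) k
  choose C hC using fun i : ℕ => grHyp k d X A L hA hL hn F hF hd (i + 1) (by omega)
  refine ⟨∑ i ∈ Finset.range N, C i, fun n => ?_⟩
  haveI := (Snapper.isCoh_twist k hL hF n).1
  rw [Snapper.hpos_eq_sum k (N := N) (hN ((tF (CohB1.tensorPow L n)).obj F)), Finset.sum_mul]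
  exact Finset.sum_le_sum fun i _ => hC i n

end GrothLib.NefGrowth
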