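import Groth.Agent.Lib.NefGrowth.Growth

/-!
# A nef module is big iff its top self-intersection is positive
-/

set_option autoImplicit false
set_option backward.isDefEq.respectTransparency false
set_option linter.all false

universe u

open CategoryTheory CategoryTheory.Limits AlgebraicGeometry TopologicalSpace

noncomputable section

namespace GrothLib.NefGrowth

open GrothLib.Euler (tF)
open GrothLib.Snapper (DimLT IsTop phi mixed polyLT mono mono_mem)
open GrothLib.Cube (Pic clsMod)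
open GrothLib.Kodaira (PLe h0)
open GrothLib.Kleiman (tc eq_two mono_two tc_mono eq_of_mono)

/-- The difference in the first variable. -/
theorem tc_shift_fst {e i m : ℕ} (hi : i ≤ e) {f : (Fin 2 → ℕ) → ℚ} (hf : f ∈ polyLT 2 (e + 1 + 1)) :
    tc e i (fun n => f ![n 0 + m, n 1] - f n) = (m : ℚ) * ((i + 1 : ℕ) : ℚ) * tc (e + 1) (i + 1) f := by
  let Φ : ((Fin 2 → ℕ) → ℚ) →ₗ[ℚ] ℚ := (tc e i).comp
    (LinearMap.funLeft ℚ ℚ (fun n : Fin 2 → ℕ => ![n 0 + m, n 1]) - LinearMap.id)
  let Ψ : ((Fin 2 → ℕ) → ℚ) →ₗ[ℚ] ℚ := ((m : ℚ) * ((i + 1 : ℕ) : ℚ)) • tc (e + 1) (i + 1)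
  show Φ f = Ψ f
  refine eq_of_mono Φ Ψ (fun a b hab => ?_) hf
  show tc e i (fun n => mono ![a, b] ![n 0 + m, n 1] - mono ![a, b] n) =
    ((m : ℚ) * ((i + 1 : ℕ) : ℚ)) * tc (e + 1) (i + 1) (mono ![a, b])
  have hexp : (fun n : Fin 2 → ℕ => mono ![a, b] ![n 0 + m, n 1] - mono ![a, b] n) =
      ∑ j ∈ Finset.range a, ((a.choose j : ℚ) * (m : ℚ) ^ (a - j)) • mono ![j, b] := by
    funext n
    simp only [Finset.sum_apply, Pi.smul_apply, smul_eq_mul, mono_two, Matrix.cons_val_zero,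
      Matrix.cons_val_one, Matrix.cons_val_fin_one, Nat.cast_add]
    rw [add_pow, Finset.sum_range_succ, Nat.sub_self, pow_zero, Nat.choose_self, Nat.cast_one, mul_one, mul_one,
      add_mul, add_sub_cancel_right, Finset.sum_mul]
    exact Finset.sum_congr rfl fun j _ => by ring
  rw [hexp, map_sum, tc_mono (d := e + 1) (by omega) hab]
  by_cases hc : a = i + 1 ∧ b = e + 1 - (i + 1)
  · obtain ⟨rfl, rfl⟩ := hc
    rw [if_pos ⟨rfl, rfl⟩, Finset.sum_eq_single i]
    · rw [map_smul, tc_mono hi (by omega), if_pos ⟨rfl, by omega⟩, smul_eq_mul, mul_one, mul_one,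
        Nat.choose_succ_self_right, Nat.add_sub_cancel_left, pow_one]
      ring
    · intro j hj hne
      rw [map_smul, tc_mono hi (by have := Finset.mem_range.1 hj; omega), if_neg (fun h => hne h.1), smul_zero]
    · intro h
      exact absurd (Finset.mem_range.2 (by omega)) h
  · rw [if_neg hc, mul_zero]
    refine Finset.sum_eq_zero fun j hj => ?_
    have := Finset.mem_range.1 hj
    rw [map_smul, tc_mono hi (by omega), if_neg (by omega), smul_zero]

variable {X : Scheme.{u}} (k : Type u) [Field k] [X.Over (Spec (CommRingCat.of k))]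
  [IsProper (X ↘ Spec (CommRingCat.of k))] [IsIntegral X]

include k in
/-- The intersection numbers of `L^μ = A + E`: the numbers on the divisor `E`. -/
theorem exists_recursion {e : ℕ} (hdim : topologicalKrullDim X = ((e + 1 : ℕ) : WithBot ℕ∞)) {L A : X.Modules}
    (hL : PicF.IsInvertible L) (hA : CohB1.IsAmple A) {μ : ℕ} (h : PLe (clsMod hA.1) (clsMod hL ^ μ)) :
    ∃ Q : X.Modules, Coh.IsCoh Q ∧ DimLT (CohB1.support Q) (e + 1) ∧ ∀ i, i ≤ e →
      (μ : ℚ) * ((i + 1 : ℕ) : ℚ) * tc (e + 1) (i + 1) (phi k 2 ![L, A] (Coh.structureModule X)) =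
        ((e + 1 - i : ℕ) : ℚ) * tc (e + 1) i (phi k 2 ![L, A] (Coh.structureModule X)) +
          tc e i (phi k 2 ![L, A] Q) := by
  haveI := Euler.isNoetherian_of_proper (X := X) k
  have hM := Ample.isInvertible_tensorPow hL μ
  rw [← Cube.clsMod_tensorPow hL μ] at h
  obtain ⟨f, hf⟩ := (Kodaira.pLe_iff hA.1 hM).1 h
  have hAc : Coh.IsCoh A := Euler.isCoh_of_isInvertible hA.1
  have hMc : Coh.IsCoh (CohB1.tensorPow L μ) := Euler.isCoh_of_isInvertible hM
  have hO := Kleiman.isCoh_O (X := X) k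
  have hQ : Coh.IsCoh (cokernel f) := QCoh.isCoh_cokernel f hAc hMc
  let S : ShortComplex X.Modules := ShortComplex.mk f (cokernel.π f) (cokernel.condition f)
  have hS : S.ShortExact :=
    haveI : Mono S.f := hf
    haveI : Epi S.g := inferInstanceAs (Epi (cokernel.π f))
    { exact := ShortComplex.exact_of_g_is_cokernel _ (cokernelIsCokernel _) }
  have hcl : closure ({genericPoint X} : Set X) = Set.univ := genericPoint_closure X
  have hXd : DimLT (Set.univ : Set X) (e + 1 + 1) := Kleiman.dimLT_univ hdim.le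
  refine ⟨cokernel f, hQ, Snapper.dimLT_of_notMem (η := genericPoint X) (by rw [hcl]; exact hXd)
    (by rw [hcl]; exact Set.subset_univ _) (QCoh.notMem_support_cokernel_of_surjective f
      (Euler.stalkLin_genericPoint_bijective hA.1 hM (Kodaira.exists_ne_zero_of_mono hA.1 f)).2), fun i hi => ?_⟩
  have hLA := Kleiman.inv_two hL hA.1
  have hadd := Snapper.phi_additive k hLA hS hAc hMc hQ
  obtain ⟨F, hFdef⟩ : ∃ F, F = phi k 2 ![L, A] (Coh.structureModule X) := ⟨_, rfl⟩
  have hF : F ∈ polyLT 2 (e + 1 + 1) := hFdef ▸ Kleiman.phi_mem k hL hA.1 hO (hXd.mono fun _ _ => trivial)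
  have h2 : ∀ m : Fin 2 → ℕ, phi k 2 ![L, A] (CohB1.tensorPow L μ) m = F ![m 0 + μ, m 1] := fun m => by
    rw [hFdef, Snapper.phi_of_iso k ![L, A] (show CohB1.tensorPow L μ ≅
      (tF (CohB1.tensorPow L μ)).obj (Coh.structureModule X) from (OX.tensorUnitLeftIso _).symm)]
    refine Kleiman.phi_tF_of_cls k hLA hM _ ?_
    rw [Fin.prod_univ_two, Fin.prod_univ_two, Cube.clsMod_tensorPow hL μ]
    show clsMod hL ^ μ * (clsMod hL ^ m 0 * clsMod hA.1 ^ m 1) = clsMod hL ^ (m 0 + μ) * clsMod hA.1 ^ m 1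
    rw [← mul_assoc, ← pow_add, add_comm μ (m 0)]
  have h1 : ∀ m : Fin 2 → ℕ, phi k 2 ![L, A] A m = F ![m 0, m 1 + 1] := fun m => by
    rw [hFdef, Snapper.phi_of_iso k ![L, A] (show A ≅ (tF A).obj (Coh.structureModule X) from
      (OX.tensorUnitLeftIso _).symm)]
    refine Kleiman.phi_tF_of_cls k hLA hA.1 _ ?_
    rw [Fin.prod_univ_two, Fin.prod_univ_two]
    show clsMod hA.1 * (clsMod hL ^ m 0 * clsMod hA.1 ^ m 1) = clsMod hL ^ m 0 * clsMod hA.1 ^ (m 1 + 1)
    rw [mul_left_comm, pow_succ']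
  have hQphi : phi k 2 ![L, A] (cokernel f) =
      (fun n => F ![n 0 + μ, n 1] - F n) - (fun n => F ![n 0, n 1 + 1] - F n) := by
    funext m
    have h := congrFun hadd m
    simp only [S, Pi.add_apply, h1, h2] at h
    simp only [Pi.sub_apply]
    linarith
  rw [hQphi, map_sub, tc_shift_fst hi hF, Kleiman.tc_shift hi hF, hFdef]
  push_cast
  ring

include k in
/-- A nef module dominating an ample one has positive intersection numbers. -/
theorem tc_pos_of_pLe {d : ℕ} (hdim : topologicalKrullDim X = (d : WithBot ℕ∞)) {L A : X.Modules}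
    (hL : PicF.IsInvertible L) (hn : NumR.IsNef k X L) (hA : CohB1.IsAmple A) {μ : ℕ}
    (h : PLe (clsMod hA.1) (clsMod hL ^ μ)) :
    ∀ i, i ≤ d → 0 < tc d i (phi k 2 ![L, A] (Coh.structureModule X)) := by
  intro i
  induction i with
  | zero =>
    exact fun _ => Kleiman.tc_zero_pos k hL hA (Kleiman.isCoh_O k)
      ((Kleiman.dimLT_univ hdim.le).mono fun _ _ => trivial)
      ⟨genericPoint X, Kleiman.mem_support_structure _, Kleiman.isTop_genericPoint hdim⟩
  | succ i ih =>
    intro hi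
    obtain ⟨e, rfl⟩ : ∃ e, d = e + 1 := ⟨d - 1, by omega⟩
    obtain ⟨Q, hQ, hQd, hrec⟩ := exists_recursion k hdim hL hA h
    have hie : i ≤ e := Nat.lt_succ_iff.1 hi
    have h1 := hrec i hie
    have h2 := Kleiman.tc_nonneg k hL hn hA hQ hQd hie
    have h3 : (0 : ℚ) < ((e + 1 - i : ℕ) : ℚ) := by exact_mod_cast (show 0 < e + 1 - i by omega)
    have h4 := mul_pos h3 (ih (by omega))
    by_contra hle
    push Not at hle
    have h5 : (μ : ℚ) * ((i + 1 : ℕ) : ℚ) * tc (e + 1) (i + 1) (phi k 2 ![L, A] (Coh.structureModule X)) ≤ 0 :=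
      mul_nonpos_of_nonneg_of_nonpos (by positivity) hle
    linarith

include k in
/-- Big and nef modules have positive self-intersection. -/
theorem mixed_pos_of_pLe {d : ℕ} (hdim : topologicalKrullDim X = (d : WithBot ℕ∞)) {L A : X.Modules}
    (hL : PicF.IsInvertible L) (hn : NumR.IsNef k X L) (hA : CohB1.IsAmple A) {μ : ℕ}
    (h : PLe (clsMod hA.1) (clsMod hL ^ μ)) :
    0 < mixed d (phi k d (fun _ => L) (Coh.structureModule X)) := by
  rw [mixed_eq_tc k hL hA.1 (Kleiman.isCoh_O k) ((Kleiman.dimLT_univ hdim.le).mono fun _ _ => trivial)]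
  exact mul_pos (tc_pos_of_pLe k hdim hL hn hA h d le_rfl) (by exact_mod_cast d.factorial_pos)

include k in
/-- Nef modules of positive self-intersection have many sections. -/
theorem exists_h0_ge_of_mixed_pos {d : ℕ} (hdim : topologicalKrullDim X = (d : WithBot ℕ∞)) {L A : X.Modules}
    (hL : PicF.IsInvertible L) (hn : NumR.IsNef k X L) (hA : CohB1.IsAmple A)
    (h : 0 < mixed d (phi k d (fun _ => L) (Coh.structureModule X))) :
    ∃ (c : ℚ) (N : ℕ), 0 < c ∧ ∀ m : ℕ, N ≤ m → c * (m : ℚ) ^ d ≤ (h0 k (CohB1.tensorPow L m) : ℚ) := by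
  haveI := Euler.isNoetherian_of_proper (X := X) k
  have hO := Kleiman.isCoh_O (X := X) k
  have hd : DimLT (CohB1.support (Coh.structureModule X)) (d + 1) :=
    (Kleiman.dimLT_univ hdim.le).mono fun _ _ => trivial
  obtain ⟨a, K, ha, hK⟩ := exists_euler_lead k hL hO hd
  rw [ha] at h
  have ha0 : 0 < a := (mul_pos_iff_of_pos_right (by exact_mod_cast d.factorial_pos)).1 h
  obtain ⟨C, hC⟩ := growth_hpos_nef k hA hL hn hO hd
  refine ⟨a / 2, ?_⟩
  have hge : ∀ m : ℕ, (Curv2.euler k X ((tF (CohB1.tensorPow L m)).obj (Coh.structureModule X)) : ℚ) -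
      (Snapper.hpos k ((tF (CohB1.tensorPow L m)).obj (Coh.structureModule X)) : ℚ) ≤
        (h0 k (CohB1.tensorPow L m) : ℚ) := fun m => by
    rw [← Kodaira.h0_of_iso k (show (tF (CohB1.tensorPow L m)).obj (Coh.structureModule X) ≅ CohB1.tensorPow L m
      from OX.tensorUnitLeftIso _)]
    exact Kodaira.le_h0 k (Snapper.isCoh_twist k hL hO m)
  rcases Nat.eq_zero_or_pos d with rfl | hd0
  · refine ⟨⌈|K|⌉₊ * 0, by linarith, fun m _ => ?_⟩
    have hz : Snapper.hpos k ((tF (CohB1.tensorPow L m)).obj (Coh.structureModule X)) = 0 :=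
      Snapper.hpos_eq_zero_of_dimLT_one k (Snapper.isCoh_twist k hL hO m)
        (hd.mono (Snapper.support_twist_subset hL m))
    have hpoly : ∀ n : ℕ, (Curv2.euler k X ((tF (CohB1.tensorPow L n)).obj (Coh.structureModule X)) : ℚ) = a := by
      obtain ⟨a', ha'⟩ := Snapper.exists_lead (d := 0)
        (Snapper.phi_mem_polyLT k (r := 1) (L := fun _ => L) (fun _ => hL) 1 (Coh.structureModule X) hO hd)
      rw [Snapper.polyLT_zero, Submodule.mem_bot, sub_eq_zero] at ha'
      have haa : a' = a := by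
        have : mixed 0 (phi k 0 (fun _ => L) (Coh.structureModule X)) = a' * ((Nat.factorial 0 : ℕ) : ℚ) := by
          rw [Snapper.phi_const_comp, Snapper.mixed_comp_sumArg (d := 0) (c := a')
            (by rw [ha', sub_self]; exact Submodule.zero_mem _)]
        rw [ha] at this
        simpa using this.symm
      intro n
      have h := congrFun ha' (fun _ => n)
      rw [Snapper.phi_const_eq, Fin.sum_univ_one] at h
      simpa [Snapper.mono, haa] using h
    have := hge m
    rw [hpoly, hz] at this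
    simp only [pow_zero, mul_one, Nat.cast_zero, sub_zero] at this ⊢
    linarith
  obtain ⟨N, hN⟩ := Kodaira.eventually_le_pow (⌈|K|⌉₊ + C) hd0 (show 0 < a / 2 by linarith)
  refine ⟨N, by linarith, fun m hm => ?_⟩
  have h1 := (abs_le.1 (hK m)).1
  have h2 : (Snapper.hpos k ((tF (CohB1.tensorPow L m)).obj (Coh.structureModule X)) : ℚ) ≤
      (C : ℚ) * ((m : ℚ) + 1) ^ (d - 1) := by exact_mod_cast hC m
  have h3 := hN m hm
  push_cast at h3
  rw [add_mul] at h3
  have h4 : K * ((m : ℚ) + 1) ^ (d - 1) ≤ (⌈|K|⌉₊ : ℚ) * ((m : ℚ) + 1) ^ (d - 1) :=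
    mul_le_mul_of_nonneg_right ((le_abs_self K).trans (Nat.le_ceil _)) (by positivity)
  have := hge m
  linarith

include k in
/-- A nef module of positive self-intersection dominates an ample one. -/
theorem exists_mono_of_mixed_pos {d : ℕ} (hdim : topologicalKrullDim X = (d : WithBot ℕ∞)) {L A : X.Modules}
    (hL : PicF.IsInvertible L) (hn : NumR.IsNef k X L) (hA : CohB1.IsAmple A)
    (h : 0 < mixed d (phi k d (fun _ => L) (Coh.structureModule X))) :
    ∃ μ : ℕ, 0 < μ ∧ PLe (clsMod hA.1) (clsMod hL ^ μ) := by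
  obtain ⟨c, N, hc, hgrow⟩ := exists_h0_ge_of_mixed_pos k hdim hL hn hA h
  obtain ⟨μ, hμ, φ, hφ⟩ := Kodaira.exists_mono_of_growth k hdim hA hL (ν := 1) hc (N := N)
    (fun μ hμ => by rw [one_mul]; exact hgrow μ hμ)
  refine ⟨1 * μ, by omega, ?_⟩
  rw [← Cube.clsMod_tensorPow hL]
  exact (Kodaira.pLe_iff hA.1 _).2 ⟨φ, hφ⟩

end GrothLib.NefGrowth
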